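import Groth.Agent.Dual3Nu.Local
import Groth.Agent.DCohShriek.BaseChange
import Groth.Agent.PerfGen.TwistGen
import Groth.Agent.PerfGen.Results

/-!
**`aM ≅ aO ⊗^L Lf^* M`** when `Rf_*` preserves perfect objects.
-/

set_option autoImplicit false
set_option backward.isDefEq.respectTransparency false
set_option backward.isDefEq.respectTransparency.types false
set_option linter.style.haveILetI false
set_option linter.unusedSectionVars false
set_option maxHeartbeats 800000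

universe u

open CategoryTheory Limits Pretriangulated AlgebraicGeometry

attribute [local instance] HasDerivedCategory.standard

namespace Groth.Agent.Dual3Nu

open Groth.Agent.DQCoh (RD)
open Groth.Agent.PerfGen Groth.Agent.DCohShriek

variable {X Y : Scheme.{u}}

/-- a lift to `D_QCoh` preserves coproducts as soon as the functor does on such families -/
lemma preservesShape_lift {A B : Scheme.{u}} (Φ : DCoh.D A ⥤ DCoh.D B)
    (hΦ : ∀ K : DCoh.DQCoh A, DCoh.IsQCohD (Φ.obj K.obj)) (κ : Type u)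
    (h : ∀ K : κ → DCoh.DQCoh A, PreservesColimit (Discrete.functor fun t => (K t).obj) Φ) :
    PreservesColimitsOfShape (Discrete κ)
      (ObjectProperty.lift (DCoh.IsQCohD (X := B)) (ObjectProperty.ι (DCoh.IsQCohD (X := A)) ⋙ Φ) hΦ) := by
  let L : DCoh.DQCoh A ⥤ DCoh.DQCoh B := ObjectProperty.lift _ (ObjectProperty.ι _ ⋙ Φ) hΦ
  suffices H : ∀ K : κ → DCoh.DQCoh A, PreservesColimit (Discrete.functor K) L by
    refine ⟨fun {F} => ?_⟩
    haveI := H fun j => F.obj ⟨j⟩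
    exact preservesColimit_of_iso_diagram _ Discrete.natIsoFunctor.symm
  intro K
  haveI := h K
  haveI := DCohShriek.preservesCoproducts_ι A κ
  haveI : PreservesColimit (Discrete.functor K ⋙ ObjectProperty.ι (DCoh.IsQCohD (X := A))) Φ :=
    preservesColimit_of_iso_diagram (K₁ := Discrete.functor fun t => (K t).obj) Φ
      (Discrete.natIso fun ⟨t⟩ => Iso.refl _)
  haveI : PreservesColimit (Discrete.functor K) (L ⋙ ObjectProperty.ι (DCoh.IsQCohD (X := B))) :=
    inferInstanceAs (PreservesColimit (Discrete.functor K) (ObjectProperty.ι (DCoh.IsQCohD (X := A)) ⋙ Φ))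
  exact preservesColimit_of_reflects_of_preserves L (ObjectProperty.ι (DCoh.IsQCohD (X := B)))

/-- natural transformations between coproduct preserving functors are invertible on coproducts -/
lemma isIso_app_sigma {C D : Type*} [Category* C] [Category* D] {F G : C ⥤ D} (τ : F ⟶ G) {κ : Type*}
    (X : κ → C) [HasCoproduct X] [PreservesColimit (Discrete.functor X) F] [PreservesColimit (Discrete.functor X) G]
    (h : ∀ k, IsIso (τ.app (X k))) : IsIso (τ.app (∐ X)) := by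
  have hF := isColimitCofanMkObjOfIsColimit F X _ (coproductIsCoproduct X)
  have hG := isColimitCofanMkObjOfIsColimit G X _ (coproductIsCoproduct X)
  refine ⟨Cofan.IsColimit.desc hG fun k => inv (τ.app (X k)) ≫ F.map (Sigma.ι X k), ?_, ?_⟩
  · refine Cofan.IsColimit.hom_ext hF _ _ fun k => ?_
    have := Cofan.IsColimit.fac hG (fun k => inv (τ.app (X k)) ≫ F.map (Sigma.ι X k)) k
    dsimp [Cofan.inj] at this ⊢
    simp only [Category.comp_id]
    rw [← Category.assoc, τ.naturality, Category.assoc, this, IsIso.hom_inv_id_assoc]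
  · refine Cofan.IsColimit.hom_ext hG _ _ fun k => ?_
    have := Cofan.IsColimit.fac hG (fun k => inv (τ.app (X k)) ≫ F.map (Sigma.ι X k)) k
    dsimp [Cofan.inj] at this ⊢
    simp only [Category.comp_id]
    rw [reassoc_of% this, τ.naturality, IsIso.inv_hom_id_assoc]

/-- `Rj_*` on `D_QCoh` -/
noncomputable abbrev rpQ {U : Scheme.{u}} (j : U ⟶ Y) [QuasiCompact j] [QuasiSeparated j] [DCoh.HasRpush j] :
    DCoh.DQCoh U ⥤ DCoh.DQCoh Y :=
  DCoh.RpushQ j fun _ hK => DQPush.isQCohD_rpush j hK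

variable [CompactSpace X] [QuasiSeparatedSpace X] [CompactSpace Y] [QuasiSeparatedSpace Y] (f : X ⟶ Y)
  [DCoh.HasRpush f] [DCoh.HasLpull f] {hf : DCoh.RpushPreservesQCoh f} {a : DCoh.DQCoh Y ⥤ DCoh.DQCoh X}
  (adj : DCoh.RpushQ f hf ⊣ a) (I : CochainComplex X.Modules ℤ) [DCoh.HasLTensorCx I]
  (hI : DCoh.IsQCohD (DCoh.toD X I)) (ν : WQ f I hI ⟶ a)

include adj in
theorem isIso_nu (hperf : ∀ P : DCoh.D X, DCoh.IsPerfect P → DCoh.IsPerfect ((DCoh.Rpush f).obj P))
    (hν : ∀ n : ℤ, IsIso (ν.app (unitQn Y n))) (E : DCoh.DQCoh Y) : IsIso (ν.app E) := by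
  -- locality
  suffices H : ∀ V : Y.Opens, IsAffineOpen V → IsIso ((RD (f ⁻¹ᵁ V).ι).map (ν.app E).hom) by
    haveI : IsIso (ν.app E).hom := by
      obtain ⟨C, p, q, hC⟩ := distinguished_cocone_triangle (ν.app E).hom
      refine (Triangle.isZero₃_iff_isIso₁ _ hC).1 (isZero_of_suppD_empty fun i x hx => ?_)
      obtain ⟨V, hV, hxV⟩ := QC.exists_affine_mem (f.base x)
      have hz : IsZero ((RD (f ⁻¹ᵁ V).ι).obj C) :=
        (Triangle.isZero₃_iff_isIso₁ _ ((RD (f ⁻¹ᵁ V).ι).map_distinguished _ hC)).2 (H V hV)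
      exact (isZero_RD_iff _ C).1 hz i hx ⟨⟨x, hxV⟩, rfl⟩
    haveI : IsIso ((ObjectProperty.ι _).map (ν.app E)) := ‹IsIso (ν.app E).hom›
    exact isIso_of_reflects_iso _ (ObjectProperty.ι _)
  intro V hV
  haveI : IsAffine (V : Scheme.{u}) := hV
  have hVc : IsCompact (V : Set Y) := hV.isCompact
  haveI : QuasiCompact V.ι := quasiCompact_of_compactSpace _
  haveI : CompactSpace (f ⁻¹ᵁ V) := isCompact_iff_compactSpace.1 (f.isCompact_preimage hVc)
  haveI : QuasiSeparatedSpace (f ⁻¹ᵁ V) := quasiSeparatedSpace_of_quasiSeparated (f ⁻¹ᵁ V).ι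
  haveI : QuasiCompact (f ∣_ V) := quasiCompact_of_compactSpace _
  have hfV : DCoh.RpushPreservesQCoh (f ∣_ V) := fun K hK => DQPush.isQCohD_rpush (f ∣_ V) hK
  haveI := isLeftAdjoint_rpushQ (f ∣_ V) hfV
  let aV := (DCoh.RpushQ (f ∣_ V) hfV).rightAdjoint
  let adjV : DCoh.RpushQ (f ∣_ V) hfV ⊣ aV := Adjunction.ofIsLeftAdjoint _
  have hθ : ∀ K, IsIso ((theta f adj V adjV).app K) := fun K =>
    isIso_thetaApp f adj V adjV (o := none) (fun P hP => Or.inl (hperf P hP)) hVc K (fun c hc => by cases hc)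
  let R : DCoh.DQCoh X ⥤ DCoh.D (f ⁻¹ᵁ V : Scheme.{u}) := ObjectProperty.ι _ ⋙ RD (f ⁻¹ᵁ V).ι
  let τ : rpQ V.ι ⋙ WQ f I hI ⋙ R ⟶ rpQ V.ι ⋙ a ⋙ R := Functor.whiskerLeft _ (Functor.whiskerRight ν R)
  -- comparison with the unit of restriction
  have hsq : ∀ E : DCoh.DQCoh Y,
      IsIso (τ.app ((rdQ V.ι).obj E)) ↔ IsIso ((RD (f ⁻¹ᵁ V).ι).map (ν.app E).hom) := by
    intro E
    let η : E ⟶ (rpQ V.ι).obj ((rdQ V.ι).obj E) := ObjectProperty.homMk ((adjR V.ι).unit.app E.obj)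
    haveI hη : IsIso ((RD V.ι).map η.hom) := isIso_map_unit_adjR V.ι E.obj
    haveI h1 : IsIso ((RD (f ⁻¹ᵁ V).ι).map ((WQ f I hI).map η).hom) := isIso_RD_W f I V η.hom
    haveI h2 : IsIso ((RD (f ⁻¹ᵁ V).ι).map (a.map η).hom) := by
      haveI := hθ E
      haveI := hθ ((rpQ V.ι).obj ((rdQ V.ι).obj E))
      haveI : IsIso ((rdQ V.ι).map η) := by
        haveI : IsIso ((ObjectProperty.ι _).map ((rdQ V.ι).map η)) := hη
        exact isIso_of_reflects_iso _ (ObjectProperty.ι _)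
      haveI : IsIso ((a ⋙ ObjectProperty.ι _ ⋙ RD (f ⁻¹ᵁ V).ι).map η) :=
        @IsIso.of_isIso_fac_right _ _ _ _ _ _ _ _ (hθ _)
          (IsIso.comp_isIso' (hθ E) (inferInstanceAs (IsIso ((aV ⋙ ObjectProperty.ι _).map ((rdQ V.ι).map η)))))
          ((theta f adj V adjV).naturality η)
      exact this
    have h3 : (RD (f ⁻¹ᵁ V).ι).map ((WQ f I hI).map η).hom ≫ τ.app ((rdQ V.ι).obj E) =
        (RD (f ⁻¹ᵁ V).ι).map (ν.app E).hom ≫ (RD (f ⁻¹ᵁ V).ι).map (a.map η).hom := by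
      show _ ≫ (RD (f ⁻¹ᵁ V).ι).map (ν.app _).hom = _
      rw [← Functor.map_comp, ← Functor.map_comp]
      exact congrArg (fun ψ => (RD (f ⁻¹ᵁ V).ι).map (InducedCategory.Hom.hom ψ)) (ν.naturality η)
    constructor
    · intro h
      haveI : IsIso ((RD (f ⁻¹ᵁ V).ι).map (ν.app E).hom ≫ (RD (f ⁻¹ᵁ V).ι).map (a.map η).hom) :=
        h3 ▸ IsIso.comp_isIso' h1 h
      exact IsIso.of_isIso_comp_right _ ((RD (f ⁻¹ᵁ V).ι).map (a.map η).hom)
    · intro h
      haveI : IsIso ((RD (f ⁻¹ᵁ V).ι).map ((WQ f I hI).map η).hom ≫ τ.app ((rdQ V.ι).obj E)) :=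
        h3.symm ▸ IsIso.comp_isIso' h h2
      exact IsIso.of_isIso_comp_left ((RD (f ⁻¹ᵁ V).ι).map ((WQ f I hI).map η).hom) _
  -- exactness of the two sides
  have hF : TriP (rpQ V.ι ⋙ WQ f I hI ⋙ R) :=
    (((TriP.comp (triP_of_isTriangulated (ObjectProperty.ι (DCoh.IsQCohD (X := (V : Scheme.{u})))))
      (triP_rpush V.ι)).comp (triP_Lpull f)).comp (triP_LTensorCx I)).comp
        (triP_of_isTriangulated (RD (f ⁻¹ᵁ V).ι))
  haveI : (DCoh.Rpush f).Additive := DCohShriek.additive_rpush f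
  haveI : (DCoh.RpushQ f hf).Additive := ⟨fun {A B} {u v} =>
    ObjectProperty.hom_ext _ ((DCoh.Rpush f).map_add (f := u.hom) (g := v.hom))⟩
  haveI : a.Additive := adj.right_adjoint_additive
  have hG : ∀ W : DCoh.D (f ⁻¹ᵁ V : Scheme.{u}), DCoh.IsQCohD W → CovEx (rpQ V.ι ⋙ a ⋙ R) W := by
    intro W hW T hT
    obtain ⟨c, hc⟩ := ((triP_of_isTriangulated
      (ObjectProperty.ι (DCoh.IsQCohD (X := (V : Scheme.{u}))))).comp (triP_rpush V.ι)) T hT
    have h0 : (rpQ V.ι).map T.mor₁ ≫ (rpQ V.ι).map T.mor₂ = 0 :=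
      ObjectProperty.hom_ext _ (comp_distTriang_mor_zero₁₂ _ hc)
    refine ⟨?_, fun t ht => ?_⟩
    · show R.map (a.map ((rpQ V.ι).map T.mor₁)) ≫ R.map (a.map ((rpQ V.ι).map T.mor₂)) = 0
      rw [← Functor.map_comp, ← Functor.map_comp, h0, Functor.map_zero]
      exact (RD (f ⁻¹ᵁ V).ι).map_zero _ _
    · let t' : W ⟶ (aV.obj ((rdQ V.ι).obj ((rpQ V.ι).obj T.obj₂))).obj := t ≫ (theta f adj V adjV).app _
      have ht' : tr adjV t' ≫ ((rdQ V.ι).map ((rpQ V.ι).map T.mor₂)).hom = 0 := by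
        rw [← tr_map]
        have : t' ≫ (aV.map ((rdQ V.ι).map ((rpQ V.ι).map T.mor₂))).hom = 0 := by
          refine (Category.assoc _ _ _).trans ?_
          refine (congrArg (t ≫ ·) ((theta f adj V adjV).naturality ((rpQ V.ι).map T.mor₂)).symm).trans ?_
          refine (Category.assoc _ _ _).symm.trans ?_
          exact (congrArg (· ≫ _) ht).trans zero_comp
        rw [this]
        haveI := DCohShriek.additive_rpush (f ∣_ V)
        simp [tr]
      obtain ⟨s', hs'⟩ := Triangle.coyoneda_exact₂ _ ((RD V.ι).map_distinguished _ hc) (tr adjV t') ht'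
      obtain ⟨s, hs⟩ := (tr_bijective adjV hW ((rdQ V.ι).obj ((rpQ V.ι).obj T.obj₁))).2 s'
      haveI := hθ ((rpQ V.ι).obj T.obj₁)
      haveI := hθ ((rpQ V.ι).obj T.obj₂)
      refine ⟨s ≫ inv ((theta f adj V adjV).app ((rpQ V.ι).obj T.obj₁)), ?_⟩
      rw [← cancel_mono ((theta f adj V adjV).app ((rpQ V.ι).obj T.obj₂))]
      have hn := (theta f adj V adjV).naturality ((rpQ V.ι).map T.mor₁)
      refine (Category.assoc _ _ _).trans ?_
      refine (congrArg ((s ≫ _) ≫ ·) hn).trans ?_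
      refine (Category.assoc _ _ _).trans ?_
      refine (congrArg (s ≫ ·) (IsIso.inv_hom_id_assoc _ _)).trans ?_
      refine (tr_bijective adjV hW _).1 ?_
      show tr adjV (s ≫ (aV.map ((rdQ V.ι).map ((rpQ V.ι).map T.mor₁))).hom) = tr adjV t'
      rw [tr_map, hs]
      exact hs'.symm
  have hqF : ∀ K, DCoh.IsQCohD ((rpQ V.ι ⋙ WQ f I hI ⋙ R).obj K) := fun K =>
    isQCohD_RD _ ((WQ f I hI).obj ((rpQ V.ι).obj K)).property
  have hqG : ∀ K, DCoh.IsQCohD ((rpQ V.ι ⋙ a ⋙ R).obj K) := fun K =>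
    isQCohD_RD _ (a.obj ((rpQ V.ι).obj K)).property
  -- the class of objects where the comparison is invertible
  let P : ObjectProperty (DCoh.D (V : Scheme.{u})) := fun N =>
    ∃ h : DCoh.IsQCohD N, ∀ n : ℤ, IsIso (τ.app ⟨N⟦n⟧, isQCohD_shift h n⟩)
  let mkIso : ∀ {A B : DCoh.DQCoh (V : Scheme.{u})}, (A.obj ≅ B.obj) → (A ≅ B) := fun e =>
    (ObjectProperty.fullyFaithfulι _).preimageIso e
  have htr : ∀ {A B : DCoh.DQCoh (V : Scheme.{u})}, (A.obj ≅ B.obj) → IsIso (τ.app A) → IsIso (τ.app B) :=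
    fun e h => (NatTrans.isIso_app_iff_of_iso τ (mkIso e)).1 h
  haveI : P.IsClosedUnderIsomorphisms := ⟨fun {A B} e ⟨h, h'⟩ =>
    ⟨(DCoh.IsQCohD (X := (V : Scheme.{u}))).prop_of_iso e h,
      fun n => htr ((shiftFunctor _ n).mapIso e) (h' n)⟩⟩
  have hP : Localizing.{u} P := by
    constructor
    · rintro N ⟨h, h'⟩ m
      exact ⟨isQCohD_shift h m, fun n => htr ((shiftFunctorAdd (DCoh.D _) m n).app N) (h' (m + n))⟩
    · rintro T hT ⟨h₁, h₁'⟩ ⟨h₂, h₂'⟩
      have h₃ := isQCohD_obj₃ T hT h₁ h₂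
      refine ⟨h₃, fun n => ?_⟩
      have hT' := Triangle.shift_distinguished T hT n
      let A₁ : DCoh.DQCoh (V : Scheme.{u}) := ⟨T.obj₁⟦n⟧, isQCohD_shift h₁ n⟩
      let A₂ : DCoh.DQCoh (V : Scheme.{u}) := ⟨T.obj₂⟦n⟧, isQCohD_shift h₂ n⟩
      let u : A₁ ⟶ A₂ := ObjectProperty.homMk ((Triangle.shiftFunctor _ n).obj T).mor₁
      obtain ⟨A₃, v, w, hA⟩ := distinguished_cocone_triangle u
      have hA' := (ObjectProperty.ι (DCoh.IsQCohD (X := (V : Scheme.{u})))).map_distinguished _ hA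
      let e : A₃.obj ≅ T.obj₃⟦n⟧ := Triangle.π₃.mapIso
        (isoTriangleOfIso₁₂ _ _ hA' hT' (Iso.refl _) (Iso.refl _)
          ((Category.comp_id _).trans (Category.id_comp _).symm))
      let s : ∀ (N : DCoh.D (V : Scheme.{u})) (hN : DCoh.IsQCohD N),
          ((⟨N⟦n⟧, isQCohD_shift hN n⟩ : DCoh.DQCoh (V : Scheme.{u}))⟦(1 : ℤ)⟧).obj ≅ N⟦n + 1⟧ := fun N hN =>
        ((ObjectProperty.ι (DCoh.IsQCohD (X := (V : Scheme.{u})))).commShiftIso (1 : ℤ)).app _ ≪≫
          ((shiftFunctorAdd (DCoh.D _) n 1).app N).symm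
      refine htr (A := A₃) e ?_
      refine isIso_of_bijective_perfect (hqF _) (hqG _) _ fun W hW => ?_
      have hb : ∀ {A : DCoh.DQCoh (V : Scheme.{u})}, IsIso (τ.app A) →
          Function.Bijective fun x : W ⟶ _ => x ≫ τ.app A := fun {A} hA =>
        ⟨fun x y h => (@cancel_mono _ _ _ _ _ (τ.app A) inferInstance _ _).1 h,
          fun y => ⟨y ≫ inv (τ.app A), by simp⟩⟩
      exact bijective_app₃ τ W (hF.covEx W) (hG W (isQCohD_of_isPerfect hW)) _ hA
        (hb (h₁' n)) (hb (h₂' n)) (hb (htr (s _ h₁).symm (h₁' (n + 1)))) (hb (htr (s _ h₂).symm (h₂' (n + 1))))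
    · intro κ N _ hN
      have hq : DCoh.IsQCohD (∐ N) := (localizing_qcohD _).coprod N fun k => (hN k).1
      refine ⟨hq, fun n => ?_⟩
      let N' : κ → DCoh.DQCoh (V : Scheme.{u}) := fun k => ⟨(N k)⟦n⟧, isQCohD_shift (hN k).1 n⟩
      haveI := DCohShriek.preservesCoproducts_ι (V : Scheme.{u}) κ
      haveI := PerfGen.hasCoproducts_D' (V : Scheme.{u}) κ
      haveI := PerfGen.hasCoproducts_D' Y κ
      haveI := PerfGen.hasCoproducts_D' X κ
      haveI := DCohShriek.preservesCoproducts_adjoint f (hf := hf) adj hperf κ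
      haveI : PreservesColimitsOfShape (Discrete κ) (rpQ V.ι) :=
        preservesShape_lift (DCoh.Rpush V.ι) _ κ fun K =>
          DQPush.preservesColimit_rpush_qcoh V.ι (fun t => (K t).obj) fun t => (K t).property
      haveI : PreservesColimitsOfShape (Discrete κ) (WQ f I hI) :=
        preservesShape_lift (W f I) _ κ fun K => by
          haveI := preservesCoproduct_Lpull f (fun t => (K t).obj)
          haveI := preservesCoproduct_LTensor I (fun t => (DCoh.Lpull f).obj (K t).obj)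
          haveI : PreservesColimit ((Discrete.functor fun t => (K t).obj) ⋙ DCoh.Lpull f) (DCoh.LTensorCx I) :=
            preservesColimit_of_iso_diagram (K₁ := Discrete.functor fun t => (DCoh.Lpull f).obj (K t).obj) _
              (Discrete.natIso fun ⟨t⟩ => Iso.refl _)
          infer_instance
      haveI : PreservesColimitsOfShape (Discrete κ) (RD (f ⁻¹ᵁ V).ι) :=
        haveI := (adjR (f ⁻¹ᵁ V).ι).leftAdjoint_preservesColimits.{u, u}
        inferInstance
      haveI := DCohShriek.preservesCoproducts_ι X κ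
      haveI : PreservesColimitsOfShape (Discrete κ) R := inferInstanceAs
        (PreservesColimitsOfShape (Discrete κ) (ObjectProperty.ι (DCoh.IsQCohD (X := X)) ⋙ RD (f ⁻¹ᵁ V).ι))
      refine htr (A := ∐ N') ?_ (isIso_app_sigma τ N' fun k => (hN k).2 n)
      exact PreservesCoproduct.iso (ObjectProperty.ι _) N' ≪≫
        (PreservesCoproduct.iso (shiftFunctor (DCoh.D (V : Scheme.{u})) n) N).symm
  have hO : P (DCoh.inD (V : Scheme.{u}) (Coh.structureModule (V : Scheme.{u}))) := by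
    refine ⟨isQCohD_of_isPerfect (PerfPush.isPerfect_unit _), fun n => ?_⟩
    obtain ⟨eO⟩ := nonempty_RD_inD V.ι
    refine htr (A := (rdQ V.ι).obj (unitQn Y n)) ?_ ((hsq _).2 (by haveI := hν n; infer_instance))
    exact (RD V.ι).mapIso (((DerivedCategory.Q (C := Y.Modules)).commShiftIso n).app (DerSch.unitCx Y) ≪≫
        (shiftFunctor _ n).mapIso (unitIso Y).symm) ≪≫
      ((RD V.ι).commShiftIso n).app _ ≪≫ (shiftFunctor _ n).mapIso eO
  have hall : DCoh.IsQCohD (X := (V : Scheme.{u})) ≤ P :=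
    le_of_gen (localizing_qcohD _) (cpt_of_perfect (PerfPush.isPerfect_unit _)) (gen_unit_affine _) hP hO
  obtain ⟨h, h'⟩ := hall _ ((rdQ V.ι).obj E).property
  exact (hsq E).1 (htr ((shiftFunctorZero (DCoh.D (V : Scheme.{u})) ℤ).app _) (h' 0))

include adj in
/-- **`aM ≅ aO ⊗^L Lf^* M`** -/
theorem nonempty_iso (hperf : ∀ P : DCoh.D X, DCoh.IsPerfect P → DCoh.IsPerfect ((DCoh.Rpush f).obj P))
    (O : DCoh.DQCoh Y) (hO : Nonempty (O.obj ≅ DCoh.inD Y (Coh.structureModule Y)))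
    (E : CochainComplex X.Modules ℤ) (hE : Nonempty (DCoh.toD X E ≅ (a.obj O).obj)) [DCoh.HasLTensorCx E] :
    Nonempty (a ⋙ ObjectProperty.ι _ ≅ ObjectProperty.ι _ ⋙ DCoh.Lpull f ⋙ DCoh.LTensorCx E) := by
  obtain ⟨eO⟩ := hO
  obtain ⟨eE⟩ := hE
  obtain ⟨J, hJ, _, μ, ⟨eJ⟩, hμ⟩ := exists_nu f hf adj O eO
  haveI : ∀ K, IsIso (μ.app K) := isIso_nu f adj J hJ μ hperf hμ
  haveI : IsIso μ := NatIso.isIso_of_isIso_app μ
  obtain ⟨c⟩ := FMTool.nonempty_ltensor_congr (eJ ≪≫ eE.symm)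
  exact ⟨Functor.isoWhiskerRight (asIso μ).symm (ObjectProperty.ι _) ≪≫
    Functor.isoWhiskerLeft (ObjectProperty.ι _) (Functor.isoWhiskerLeft (DCoh.Lpull f) c)⟩

end Groth.Agent.Dual3Nu
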