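import Groth.Agent.Dual3Nu.Shift
import Groth.Agent.FMTool.Proj2
import Groth.Agent.TorBC.Chain
import Groth.Agent.PerfGen.QCohTri

/-!
The comparison map `Rf_*(I ⊗ Lf^* M) ⟶ M` attached to a trace map, and its universality at shifted structure sheaves.
-/

set_option autoImplicit false
set_option backward.isDefEq.respectTransparency false
set_option backward.isDefEq.respectTransparency.types false
set_option linter.style.haveILetI false
set_option linter.unusedSectionVars false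
set_option maxHeartbeats 800000

universe u

open CategoryTheory Limits AlgebraicGeometry HomologicalComplex

attribute [local instance] HasDerivedCategory.standard

namespace Groth.Agent.Dual3Nu

open Groth.Agent.KFlat Groth.Agent.ProjForm Groth.Agent.FMTool Groth.Agent.TorBC

variable {X Y : Scheme.{u}} (f : X ⟶ Y) [QuasiCompact f] [QuasiSeparated f] [DCoh.HasRpush f]

/-- the chain level projection morphism in the derived category -/
noncomputable def mid (I : CochainComplex X.Modules ℤ) (P : CochainComplex Y.Modules ℤ) :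
    (Q₀ Y).obj ((DCoh.tensorCx.obj ((pC f).obj I)).obj P) ⟶
      (DCoh.Rpush f).obj ((Q₀ X).obj ((DCoh.tensorCx.obj I).obj ((qC f).obj P))) :=
  (Q₀ Y).map ((theta f I).app P) ≫ (DQPush.unitQ f).app ((rhsF f I).obj P)

lemma mid_natural_left {I I' : CochainComplex X.Modules ℤ} (k : I ⟶ I') (P : CochainComplex Y.Modules ℤ) :
    mid f I P ≫ (DCoh.Rpush f).map ((Q₀ X).map ((DCoh.tensorCx.map k).app ((qC f).obj P))) =
      (Q₀ Y).map ((DCoh.tensorCx.map ((pC f).map k)).app P) ≫ mid f I' P := by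
  have h1 := congrArg (Q₀ Y).map (theta_natural_left f k P)
  have h2 := (DQPush.unitQ f).naturality ((DCoh.tensorCx.map k).app ((qC f).obj P))
  simp only [Functor.comp_map, Functor.map_comp] at h1 h2
  simp only [mid, Category.assoc]
  erw [← h2, reassoc_of% h1]
  rfl

lemma mid_natural_right (I : CochainComplex X.Modules ℤ) {P P' : CochainComplex Y.Modules ℤ} (u : P ⟶ P') :
    (Q₀ Y).map ((DCoh.tensorCx.obj ((pC f).obj I)).map u) ≫ mid f I P' =
      mid f I P ≫ (DCoh.Rpush f).map ((Q₀ X).map ((DCoh.tensorCx.obj I).map ((qC f).map u))) := by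
  have h1 := congrArg (Q₀ Y).map ((theta f I).naturality u)
  have h2 := (DQPush.unitQ f).naturality ((rhsF f I).map u)
  simp only [Functor.comp_map, Functor.map_comp] at h1 h2
  simp only [mid]
  rw [reassoc_of% h1, h2, Category.assoc]

lemma isIso_mid (I : CochainComplex X.Modules ℤ) [I.IsKInjective] (hIq : ∀ i, Coh.IsQCoh (I.homology i))
    {P : CochainComplex Y.Modules ℤ} (hP : DCoh.IsKFlat P) (hPq : ∀ i, Coh.IsQCoh (P.homology i)) :
    IsIso (mid f I P) := by
  obtain ⟨J, s, hJ, hs⟩ := DerPush.exists_kInj_sch ((rhsF f I).obj P)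
  haveI : QuasiIso ((theta f I).app P ≫ (pC f).map s) := quasiIso_of_qisOn _ fun y => by
    obtain ⟨V, hV, hy⟩ := QC.exists_affine_mem y
    exact ⟨V, hy, (good_iff s).1 (good_of_affine f I hV hIq hP hPq)⟩
  haveI : IsIso ((DQPush.unitQ f).app J) := (rpushIso f J).isIso_hom
  have hn := (DQPush.unitQ f).naturality s
  simp only [Functor.comp_map] at hn
  haveI : IsIso (mid f I P ≫ (DCoh.Rpush f).map ((Q₀ X).map s)) := by
    rw [mid, Category.assoc, ← hn, ← Category.assoc, ← Functor.map_comp]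
    infer_instance
  exact IsIso.of_isIso_comp_right _ ((DCoh.Rpush f).map ((Q₀ X).map s))

variable [DCoh.HasLpull f] (I : CochainComplex X.Modules ℤ) [DCoh.HasLTensorCx I]
  [DCoh.HasLTensorCx ((pC f).obj I)]

/-- `Q(f_*I) ⊗ - ≅` on complexes -/
noncomputable def lZ {W : Scheme.{u}} (Z : CochainComplex W.Modules ℤ) [DCoh.HasLTensorCx Z] :
    Q₀ W ⋙ DCoh.LTensorCx Z ≅ resF W ⋙ DCoh.tensorCx.obj Z ⋙ Q₀ W :=
  ltQ Z ≪≫ Functor.isoWhiskerLeft (resF W) (Functor.isoWhiskerRight (swapNat Z) (Q₀ W))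

/-- `I ⊗^L Lf^*` on complexes -/
noncomputable def lR : Q₀ Y ⋙ DCoh.Lpull f ⋙ DCoh.LTensorCx I ≅
    (resF Y ⋙ qC f) ⋙ DCoh.tensorCx.obj I ⋙ Q₀ X :=
  (Functor.associator _ _ _).symm ≪≫
    Functor.isoWhiskerRight (lpQ f ≪≫ (Functor.associator _ _ _).symm) _ ≪≫ Functor.associator _ _ _ ≪≫
    ltOn I (resF Y ⋙ qC f) (fun A => KFlat.isKFlat_pullback f (isKFlat_resF A)) ≪≫
    Functor.isoWhiskerLeft _ (Functor.isoWhiskerRight (swapNat I) (Q₀ X))

/-- the projection map on complexes -/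
noncomputable def tau₀ : Q₀ Y ⋙ DCoh.LTensorCx ((pC f).obj I) ⟶
    Q₀ Y ⋙ DCoh.Lpull f ⋙ DCoh.LTensorCx I ⋙ DCoh.Rpush f where
  app A := (lZ ((pC f).obj I)).hom.app A ≫ mid f I ((resF Y).obj A) ≫
    (DCoh.Rpush f).map ((lR f I).inv.app A)
  naturality A B u := by
    rw [(lZ ((pC f).obj I)).hom.naturality_assoc u]
    simp only [Category.assoc, Functor.comp_map]
    rw [← Category.assoc ((Q₀ Y).map _) (mid f I _), mid_natural_right, Category.assoc, ← Functor.map_comp,
      ← Functor.map_comp]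
    congr 3
    exact (lR f I).inv.naturality u

/-- the projection map -/
noncomputable def tau : DCoh.LTensorCx ((pC f).obj I) ⟶ DCoh.Lpull f ⋙ DCoh.LTensorCx I ⋙ DCoh.Rpush f :=
  Localization.liftNatTrans (Q₀ Y) (HomologicalComplex.quasiIso Y.Modules (ComplexShape.up ℤ)) _ _ _ _ (tau₀ f I)

lemma tau_app (A : CochainComplex Y.Modules ℤ) : (tau f I).app ((Q₀ Y).obj A) = (tau₀ f I).app A := by
  simp [tau, Localization.liftNatTrans_app, Localization.Lifting.iso]

lemma isIso_tau [I.IsKInjective] (hIq : ∀ i, Coh.IsQCoh (I.homology i)) {E : DCoh.D Y} (hE : DCoh.IsQCohD E) :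
    IsIso ((tau f I).app E) := by
  obtain ⟨A, -, -, ⟨e⟩⟩ := KFlat.exists_isKFlat_rep E
  haveI : IsIso (mid f I ((resF Y).obj A)) := isIso_mid f I hIq (isKFlat_resF A) fun i =>
    QC.isQCoh_of_iso ((DerivedCategory.homologyFunctor _ i).mapIso
      (((rQ Y).app A) ≪≫ e).symm ≪≫ KFlat.hdIso _ i) (hE i)
  haveI : IsIso ((tau f I).app ((Q₀ Y).obj A)) := by
    rw [tau_app]
    simp only [tau₀]
    infer_instance
  exact (NatTrans.isIso_app_iff_of_iso (tau f I) e.symm).2 ‹_›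

variable (J : CochainComplex Y.Modules ℤ) [DCoh.HasLTensorCx J] (z : (pC f).obj I ⟶ J)

/-- `Q(f_*I) ⊗ - ⟶ J ⊗ -` -/
noncomputable def kap₀ : Q₀ Y ⋙ DCoh.LTensorCx ((pC f).obj I) ⟶ Q₀ Y ⋙ DCoh.LTensorCx J where
  app A := (lZ ((pC f).obj I)).hom.app A ≫ (Q₀ Y).map ((DCoh.tensorCx.map z).app ((resF Y).obj A)) ≫
    (lZ J).inv.app A
  naturality A B u := by
    rw [(lZ ((pC f).obj I)).hom.naturality_assoc u]
    simp only [Category.assoc, Functor.comp_map]
    rw [← Functor.map_comp_assoc, (DCoh.tensorCx.map z).naturality, Functor.map_comp_assoc]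
    congr 2
    exact (lZ J).inv.naturality u

/-- `Q(f_*I) ⊗ - ⟶ J ⊗ -` -/
noncomputable def kap : DCoh.LTensorCx ((pC f).obj I) ⟶ DCoh.LTensorCx J :=
  Localization.liftNatTrans (Q₀ Y) (HomologicalComplex.quasiIso Y.Modules (ComplexShape.up ℤ)) _ _ _ _ (kap₀ f I J z)

lemma kap_app (A : CochainComplex Y.Modules ℤ) :
    (kap f I J z).app ((Q₀ Y).obj A) = (kap₀ f I J z).app A := by
  simp [kap, Localization.liftNatTrans_app, Localization.Lifting.iso]

/-- the trace map attached to `z` -/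
noncomputable def trz [I.IsKInjective] : (DCoh.Rpush f).obj ((Q₀ X).obj I) ⟶ (Q₀ Y).obj J :=
  (rpushIso f I).inv ≫ (Q₀ Y).map z

/-- **universality at a shifted structure sheaf** -/
theorem bijective_unitShift [I.IsKInjective] (hIq : ∀ i, Coh.IsQCoh (I.homology i))
    (huniv : ∀ T : DCoh.D X, DCoh.IsQCohD T →
      Function.Bijective fun φ : T ⟶ (Q₀ X).obj I => (DCoh.Rpush f).map φ ≫ trz f I J z)
    (n : ℤ) (T : DCoh.D X) (hT : DCoh.IsQCohD T)
    [IsIso ((tau f I).app ((Q₀ Y).obj (unitShift Y n)))] :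
    Function.Bijective fun t : T ⟶ (DCoh.LTensorCx I).obj ((DCoh.Lpull f).obj ((Q₀ Y).obj (unitShift Y n))) =>
      (DCoh.Rpush f).map t ≫ inv ((tau f I).app ((Q₀ Y).obj (unitShift Y n))) ≫
        (kap f I J z).app ((Q₀ Y).obj (unitShift Y n)) := by
  let A := unitShift Y n
  let P := (resF Y).obj A
  have hP : DCoh.IsKFlat P := isKFlat_resF A
  have hP' : DCoh.IsKFlat ((qC f).obj P) := KFlat.isKFlat_pullback f hP
  haveI := KFlat.hasLTensorCx P
  haveI := KFlat.hasLTensorCx ((qC f).obj P)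
  let eY : DCoh.toD Y P ≅ DCoh.toD Y (unitShift Y n) := (rQ Y).app A
  let eX : DCoh.toD X ((qC f).obj P) ≅ DCoh.toD X (unitShift X n) :=
    (ProjForm.lpullIso f hP).symm ≪≫ (DCoh.Lpull f).mapIso eY ≪≫
      ProjForm.lpullIso f (isKFlat_unitShift Y n) ≪≫ DerivedCategory.Q.mapIso (pullUnitShift f n)
  obtain ⟨ΦY⟩ := nonempty_ltensor_iso_shift n P eY
  obtain ⟨ΦX⟩ := nonempty_ltensor_iso_shift n ((qC f).obj P) eX
  haveI : (DCoh.LTensorCx P).IsEquivalence := Functor.isEquivalence_of_iso ΦY.symm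
  haveI : (DCoh.LTensorCx ((qC f).obj P)).IsEquivalence := Functor.isEquivalence_of_iso ΦX.symm
  obtain ⟨J', hJ', ⟨eJ⟩⟩ := HDU.exists_kInj_rep (A := X.Modules) (T⟦-n⟧)
  haveI := hJ'
  let eT₀ : (DCoh.LTensorCx ((qC f).obj P)).obj ((Q₀ X).obj J') ≅ T :=
    (DCoh.LTensorCx ((qC f).obj P)).mapIso eJ ≪≫ ΦX.app _ ≪≫
      (shiftFunctorCompIsoId (DCoh.D X) (-n) n (neg_add_cancel n)).app T
  let eT : (Q₀ X).obj ((DCoh.tensorCx.obj J').obj ((qC f).obj P)) ≅ T := (ltIsoOfKFlat hP' J').symm ≪≫ eT₀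
  have hJ'0 : DCoh.IsQCohD ((Q₀ X).obj J') := fun i =>
    QC.isQCoh_of_iso ((DerivedCategory.homologyFunctor _ i).mapIso eJ.symm) (PerfGen.isQCohD_shift hT (-n) i)
  have hJ'q : ∀ i, Coh.IsQCoh (J'.homology i) := fun i => QC.isQCoh_of_iso (KFlat.hdIso J' i) (hJ'0 i)
  have hPq : ∀ i, Coh.IsQCoh (P.homology i) := fun i =>
    QC.isQCoh_of_iso ((DerivedCategory.homologyFunctor _ i).mapIso eY.symm ≪≫ KFlat.hdIso P i)
      (PerfGen.isQCohD_shift (KSixLib.isQCohD_unitCx Y) n |> fun h =>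
        QC.isQCoh_of_iso ((DerivedCategory.homologyFunctor _ i).mapIso
          (((DerivedCategory.Q (C := Y.Modules)).commShiftIso n).app (DerSch.unitCx Y)).symm) (h i))
  haveI := isIso_mid f J' hJ'q hP hPq
  haveI := isIso_mid f I hIq hP hPq
  -- the transposition on representatives
  let G : ((Q₀ X).obj ((DCoh.tensorCx.obj J').obj ((qC f).obj P)) ⟶
      (Q₀ X).obj ((DCoh.tensorCx.obj I).obj ((qC f).obj P))) →
      ((DCoh.Rpush f).obj ((Q₀ X).obj ((DCoh.tensorCx.obj J').obj ((qC f).obj P))) ⟶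
        (Q₀ Y).obj ((DCoh.tensorCx.obj J).obj P)) := fun t =>
    (DCoh.Rpush f).map t ≫ inv (mid f I P) ≫ (Q₀ Y).map ((DCoh.tensorCx.map z).app P)
  let c : ∀ K : CochainComplex X.Modules ℤ, _ ≅ (Q₀ X).obj ((DCoh.tensorCx.obj K).obj ((qC f).obj P)) :=
    fun K => ltIsoOfKFlat hP' K
  let d : ∀ K : CochainComplex Y.Modules ℤ, _ ≅ (Q₀ Y).obj ((DCoh.tensorCx.obj K).obj P) :=
    fun K => ltIsoOfKFlat hP K
  let A₁ : ((Q₀ X).obj J' ⟶ (Q₀ X).obj I) → _ := fun κ =>
    (c J').inv ≫ (DCoh.LTensorCx ((qC f).obj P)).map κ ≫ (c I).hom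
  have hA₁ : Function.Bijective A₁ :=
    ((c J').homCongr (c I)).bijective.comp
      (Functor.FullyFaithful.ofFullyFaithful (DCoh.LTensorCx ((qC f).obj P))).homEquiv.bijective
  let R : ((Q₀ X).obj J' ⟶ (Q₀ X).obj I) → ((Q₀ Y).obj ((pC f).obj J') ⟶ (Q₀ Y).obj J) := fun κ =>
    (rpushIso f J').hom ≫ (DCoh.Rpush f).map κ ≫ trz f I J z
  have hR : Function.Bijective R :=
    (show Function.Bijective fun x => (rpushIso f J').hom ≫ x from
      ⟨fun x y h => (cancel_epi _).1 h, fun w => ⟨(rpushIso f J').inv ≫ w, by simp⟩⟩).comp (huniv _ hJ'0)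
  have hG : Function.Bijective G := by
    refine (Function.Bijective.of_comp_iff G hA₁).1 ?_
    have key : G ∘ A₁ = (fun v => inv (mid f J' P) ≫ (d _).inv ≫ (DCoh.LTensorCx P).map v ≫ (d _).hom) ∘ R := by
      funext κ
      obtain ⟨k, rfl⟩ := KInj.Q_map_surjective (K := J') (I := I) κ
      have h1 : A₁ ((Q₀ X).map k) = (Q₀ X).map ((DCoh.tensorCx.map k).app ((qC f).obj P)) := by
        simp only [A₁, Iso.inv_comp_eq]
        exact (KFlat.ltCounit ((qC f).obj P)).naturality k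
      have h2 : R ((Q₀ X).map k) = (Q₀ Y).map ((pC f).map k ≫ z) := by
        simp only [R, trz, Functor.map_comp]
        rw [← reassoc_of% (show (Q₀ Y).map ((pC f).map k) ≫ (rpushIso f I).hom =
          (rpushIso f J').hom ≫ (DCoh.Rpush f).map ((Q₀ X).map k) from (DQPush.unitQ f).naturality k),
          Iso.hom_inv_id_assoc]
      have h3 : (DCoh.LTensorCx P).map ((Q₀ Y).map ((pC f).map k ≫ z)) ≫ (d J).hom =
          (d _).hom ≫ (Q₀ Y).map ((DCoh.tensorCx.map ((pC f).map k ≫ z)).app P) :=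
        (KFlat.ltCounit P).naturality ((pC f).map k ≫ z)
      simp only [Function.comp_apply, h2, h3, Iso.inv_hom_id_assoc]
      rw [h1]
      simp only [G]
      rw [IsIso.eq_inv_comp, reassoc_of% (mid_natural_left f k P), IsIso.hom_inv_id_assoc, ← Functor.map_comp,
        Functor.map_comp DCoh.tensorCx, NatTrans.comp_app]
    rw [key]
    refine Function.Bijective.comp ?_ hR
    refine (show Function.Bijective fun w => inv (mid f J' P) ≫ w from
      ⟨fun x y h => (cancel_epi _).1 h, fun w => ⟨mid f J' P ≫ w, by simp⟩⟩).comp ?_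
    exact ((d _).homCongr (d J)).bijective.comp
      (Functor.FullyFaithful.ofFullyFaithful (DCoh.LTensorCx P)).homEquiv.bijective
  have hfun : (fun t : T ⟶ (DCoh.LTensorCx I).obj ((DCoh.Lpull f).obj ((Q₀ Y).obj A)) =>
      (DCoh.Rpush f).map t ≫ inv ((tau f I).app ((Q₀ Y).obj A)) ≫ (kap f I J z).app ((Q₀ Y).obj A)) =
      (((DCoh.Rpush f).mapIso eT).homCongr ((lZ J).app A).symm) ∘ G ∘
        (eT.symm.homCongr ((lR f I).app A)) := by
    funext t
    have e1 : inv ((tau f I).app ((Q₀ Y).obj A)) =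
        (DCoh.Rpush f).map ((lR f I).hom.app A) ≫ inv (mid f I P) ≫ (lZ ((pC f).obj I)).inv.app A := by
      refine IsIso.inv_eq_of_hom_inv_id ?_
      rw [tau_app]
      simp only [tau₀, Category.assoc]
      rw [← Functor.map_comp_assoc, Iso.inv_hom_id_app]
      erw [CategoryTheory.Functor.map_id, Category.id_comp, IsIso.hom_inv_id_assoc, Iso.hom_inv_id_app]
      rfl
    rw [e1, kap_app]
    simp only [kap₀, G, Function.comp_apply, Iso.homCongr_apply, Iso.app_hom, Iso.app_inv, Iso.symm_inv,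
      Iso.symm_hom, Functor.mapIso_inv, Functor.map_comp, Category.assoc, Iso.inv_hom_id_app_assoc,
      P]
    rw [← Functor.map_comp_assoc (DCoh.Rpush f) eT.inv eT.hom, Iso.inv_hom_id, CategoryTheory.Functor.map_id,
      Category.id_comp]
  show Function.Bijective (fun t : T ⟶ (DCoh.LTensorCx I).obj ((DCoh.Lpull f).obj ((Q₀ Y).obj A)) =>
      (DCoh.Rpush f).map t ≫ inv ((tau f I).app ((Q₀ Y).obj A)) ≫ (kap f I J z).app ((Q₀ Y).obj A))
  rw [hfun]
  exact (Equiv.bijective _).comp (hG.comp (Equiv.bijective _))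

end Groth.Agent.Dual3Nu
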