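import Groth.Prelude.Def_DDual2
import Groth.Agent.Dual3Nu.Nu
import Groth.Agent.DCohShriek.SuppApps
import Groth.Agent.HDU.Top

/-!
The comparison `aO ⊗^L Lf^* M ⟶ aM` and its invertibility at shifted structure sheaves.
-/

set_option autoImplicit false
set_option backward.isDefEq.respectTransparency false
set_option backward.isDefEq.respectTransparency.types false
set_option linter.style.haveILetI false
set_option linter.unusedSectionVars false

universe u

open CategoryTheory Limits AlgebraicGeometry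

attribute [local instance] HasDerivedCategory.standard

namespace Groth.Agent.Dual3Nu

open Groth.Agent.KFlat Groth.Agent.ProjForm Groth.Agent.FMTool

variable {X Y : Scheme.{u}} (f : X ⟶ Y)

/-- `Lf^*` followed by `- ⊗^L I` -/
noncomputable abbrev W [DCoh.HasLpull f] (I : CochainComplex X.Modules ℤ) [DCoh.HasLTensorCx I] :
    DCoh.D Y ⥤ DCoh.D X :=
  DCoh.Lpull f ⋙ DCoh.LTensorCx I

lemma isQCohD_W [DCoh.HasLpull f] (I : CochainComplex X.Modules ℤ) [DCoh.HasLTensorCx I]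
    (hI : DCoh.IsQCohD (DCoh.toD X I)) {E : DCoh.D Y} (hE : DCoh.IsQCohD E) :
    DCoh.IsQCohD ((W f I).obj E) :=
  DQCoh.isQCohD_LTensorCx I hI _ (DQCoh.isQCohD_Lpull f _ hE)

/-- `Lf^*(-) ⊗^L I` on `D_QCoh` -/
noncomputable abbrev WQ [DCoh.HasLpull f] (I : CochainComplex X.Modules ℤ) [DCoh.HasLTensorCx I]
    (hI : DCoh.IsQCohD (DCoh.toD X I)) : DCoh.DQCoh Y ⥤ DCoh.DQCoh X :=
  ObjectProperty.lift _ (ObjectProperty.ι _ ⋙ W f I) fun E => isQCohD_W f I hI E.property

/-- the shifted structure sheaf in `D_QCoh` -/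
noncomputable def unitQn (Y : Scheme.{u}) (n : ℤ) : DCoh.DQCoh Y :=
  ⟨(Q₀ Y).obj (unitShift Y n), fun i => QC.isQCoh_of_iso ((DerivedCategory.homologyFunctor _ i).mapIso
    (((DerivedCategory.Q (C := Y.Modules)).commShiftIso n).app (DerSch.unitCx Y)).symm)
      (PerfGen.isQCohD_shift (KSixLib.isQCohD_unitCx Y) n i)⟩

/-- `Q` of `O` in degree zero -/
noncomputable def unitIso (Y : Scheme.{u}) :
    DCoh.inD Y (Coh.structureModule Y) ≅ DCoh.toD Y (DerSch.unitCx Y) :=
  (DerivedCategory.singleFunctorIsoCompQ Y.Modules 0).app _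

theorem exists_nu [CompactSpace X] [QuasiSeparatedSpace X] [CompactSpace Y] [QuasiSeparatedSpace Y]
    [DCoh.HasRpush f] [DCoh.HasLpull f] (hf : DCoh.RpushPreservesQCoh f) {a : DCoh.DQCoh Y ⥤ DCoh.DQCoh X}
    (adj : DCoh.RpushQ f hf ⊣ a) (O : DCoh.DQCoh Y) (eO : O.obj ≅ DCoh.inD Y (Coh.structureModule Y)) :
    ∃ (I : CochainComplex X.Modules ℤ) (hI : DCoh.IsQCohD (DCoh.toD X I)) (_ : DCoh.HasLTensorCx I)
      (ν : WQ f I hI ⟶ a), Nonempty (DCoh.toD X I ≅ (a.obj O).obj) ∧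
        ∀ n : ℤ, IsIso (ν.app (unitQn Y n)) := by
  obtain ⟨I, hI', ⟨eI⟩⟩ := HDU.exists_kInj_rep (A := X.Modules) (a.obj O).obj
  obtain ⟨J, hJ', ⟨eJ⟩⟩ := HDU.exists_kInj_rep (A := Y.Modules) O.obj
  haveI := hI'
  haveI := hJ'
  have hI : DCoh.IsQCohD (DCoh.toD X I) := fun i =>
    QC.isQCoh_of_iso ((DerivedCategory.homologyFunctor _ i).mapIso eI.symm) ((a.obj O).property i)
  have hIq : ∀ i, Coh.IsQCoh (I.homology i) := fun i => QC.isQCoh_of_iso (KFlat.hdIso I i) (hI i)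
  haveI : DCoh.HasLTensorCx I := KFlat.hasLTensorCx I
  haveI : DCoh.HasLTensorCx ((pC f).obj I) := KFlat.hasLTensorCx _
  haveI : DCoh.HasLTensorCx J := KFlat.hasLTensorCx J
  haveI : DCoh.HasLTensorCx (DerSch.unitCx Y) := KFlat.hasLTensorCx _
  obtain ⟨z, hz⟩ := KInj.Q_map_surjective (K := (pC f).obj I) (I := J)
    ((rpushIso f I).hom ≫ DCohShriek.tr adj eI.hom ≫ eJ.inv)
  have hz' : (Q₀ Y).map z = (rpushIso f I).hom ≫ DCohShriek.tr adj eI.hom ≫ eJ.inv := hz
  have htrz : trz f I J z = DCohShriek.tr adj eI.hom ≫ eJ.inv := by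
    rw [trz, hz', Iso.inv_hom_id_assoc]
  have huniv : ∀ T : DCoh.D X, DCoh.IsQCohD T →
      Function.Bijective fun φ : T ⟶ (Q₀ X).obj I => (DCoh.Rpush f).map φ ≫ trz f I J z := by
    intro T hT
    have h : (fun φ : T ⟶ (Q₀ X).obj I => (DCoh.Rpush f).map φ ≫ trz f I J z) =
        (fun w => w ≫ eJ.inv) ∘ DCohShriek.tr adj ∘ fun φ => φ ≫ eI.hom := by
      funext φ
      simp only [Function.comp_apply, htrz, DCohShriek.tr_comp, Category.assoc]
    rw [h]
    exact (show Function.Bijective fun w : (DCoh.Rpush f).obj T ⟶ O.obj => w ≫ eJ.inv from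
      ⟨fun x y h => (cancel_mono _).1 h, fun w => ⟨w ≫ eJ.hom, by simp⟩⟩).comp
      ((DCohShriek.tr_bijective adj hT O).comp
        ⟨fun x y h => (cancel_mono eI.hom).1 h, fun w => ⟨w ≫ eI.inv, by simp⟩⟩)
  obtain ⟨c⟩ := nonempty_ltensor_congr (eJ ≪≫ eO ≪≫ unitIso Y : DCoh.toD Y J ≅ DCoh.toD Y (DerSch.unitCx Y))
  obtain ⟨u⟩ := nonempty_ltensor_unit_nat Y
  let pre : ∀ E : DCoh.DQCoh Y, (DCoh.Rpush f).obj ((W f I).obj E.obj) ⟶ E.obj := fun E =>
    haveI := isIso_tau f I hIq E.property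
    inv ((tau f I).app E.obj) ≫ (kap f I J z).app E.obj ≫ (c ≪≫ u).hom.app E.obj
  have hpre : ∀ {E E' : DCoh.DQCoh Y} (φ : E ⟶ E'),
      (DCoh.Rpush f).map ((W f I).map φ.hom) ≫ pre E' = pre E ≫ φ.hom := by
    intro E E' φ
    haveI := isIso_tau f I hIq E.property
    haveI := isIso_tau f I hIq E'.property
    have h1 : (DCoh.LTensorCx ((pC f).obj I)).map φ.hom ≫ (tau f I).app E'.obj =
        (tau f I).app E.obj ≫ (DCoh.Rpush f).map ((W f I).map φ.hom) := (tau f I).naturality φ.hom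
    have h2 : (DCoh.Rpush f).map ((W f I).map φ.hom) ≫ inv ((tau f I).app E'.obj) =
        inv ((tau f I).app E.obj) ≫ (DCoh.LTensorCx ((pC f).obj I)).map φ.hom := by
      rw [IsIso.eq_inv_comp, ← Category.assoc]
      erw [← h1]
      rw [Category.assoc, IsIso.hom_inv_id, Category.comp_id]
    simp only [pre, Category.assoc]
    erw [reassoc_of% h2]
    rw [(kap f I J z).naturality_assoc φ.hom, (c ≪≫ u).hom.naturality φ.hom]
    rfl
  let ν : WQ f I hI ⟶ a :=
    { app := fun E => adj.homEquiv ((WQ f I hI).obj E) E (ObjectProperty.homMk (pre E))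
      naturality := fun E E' φ => by
        rw [← Adjunction.homEquiv_naturality_left, ← Adjunction.homEquiv_naturality_right]
        exact congrArg _ (ObjectProperty.hom_ext _ (hpre φ)) }
  refine ⟨I, hI, ‹_›, ν, ⟨eI⟩, fun n => ?_⟩
  refine isIso_of_yoneda_map_bijective _ fun T => ?_
  haveI := isIso_tau f I hIq (unitQn Y n).property
  haveI : IsIso ((tau f I).app ((Q₀ Y).obj (unitShift Y n))) := isIso_tau f I hIq (unitQn Y n).property
  have hb := bijective_unitShift f I J z hIq huniv n T.obj T.property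
  have h : (fun t : T ⟶ (WQ f I hI).obj (unitQn Y n) => t ≫ ν.app (unitQn Y n)) =
      (adj.homEquiv T (unitQn Y n)) ∘ ObjectProperty.homMk ∘ (fun w => w ≫ (c ≪≫ u).hom.app _) ∘
        (fun t' => (DCoh.Rpush f).map t' ≫ inv ((tau f I).app ((Q₀ Y).obj (unitShift Y n))) ≫
          (kap f I J z).app ((Q₀ Y).obj (unitShift Y n))) ∘ InducedCategory.Hom.hom := by
    funext t
    simp only [Function.comp_apply, ν]
    rw [← Adjunction.homEquiv_naturality_left]
    refine congrArg _ (ObjectProperty.hom_ext _ ?_)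
    show (DCoh.Rpush f).map t.hom ≫ pre (unitQn Y n) = _
    simp only [pre, Category.assoc]
    rfl
  rw [h]
  refine (Equiv.bijective _).comp (Function.Bijective.comp ⟨fun x y h => congrArg InducedCategory.Hom.hom h,
    fun w => ⟨w.hom, rfl⟩⟩ (Function.Bijective.comp ?_ (hb.comp
      ⟨fun x y h => InducedCategory.hom_ext h, fun w => ⟨ObjectProperty.homMk w, rfl⟩⟩)))
  exact ⟨fun x y h => (cancel_mono _).1 h, fun w => ⟨w ≫ inv ((c ≪≫ u).hom.app _),
    (Category.assoc _ _ _).trans ((congrArg (w ≫ ·) (IsIso.inv_hom_id _)).trans (Category.comp_id w))⟩⟩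

end Groth.Agent.Dual3Nu
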