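import Groth.Agent.Dual3Nu.Tri
import Groth.Agent.Dual3Nu.Setup
import Groth.Agent.FMTool.Basic
import Groth.Agent.DerPush.Basic
import Groth.Agent.PerfGen.Open
import Groth.Agent.PerfPush.Unit
import Groth.Agent.DQCoh.Coprod

/-!
`Lf^*(-) ⊗^L I` and restriction to opens.
-/

set_option autoImplicit false
set_option backward.isDefEq.respectTransparency false
set_option backward.isDefEq.respectTransparency.types false
set_option linter.style.haveILetI false
set_option linter.unusedSectionVars false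

universe u

open CategoryTheory Limits Pretriangulated AlgebraicGeometry

attribute [local instance] HasDerivedCategory.standard

namespace Groth.Agent.Dual3Nu

open Groth.Agent.DQCoh (RD)
open Groth.Agent.PerfGen Groth.Agent.KFlat Groth.Agent.FMTool

variable {X Y : Scheme.{u}}

/-- restriction to an open is the derived inverse image -/
theorem nonempty_lpull_RD_nat {U : Scheme.{u}} (j : U ⟶ X) [IsOpenImmersion j] [DCoh.HasLpull j] :
    Nonempty (DCoh.Lpull j ≅ RD j) := by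
  obtain ⟨a⟩ := DerPush.nonempty_lpull_adj_rpush j
  exact ⟨a.leftAdjointUniq (adjR j)⟩

variable (f : X ⟶ Y) [DCoh.HasLpull f] (I : CochainComplex X.Modules ℤ) [DCoh.HasLTensorCx I]

/-- a morphism invertible over `V` stays invertible over `f⁻¹V` after `Lf^*(-) ⊗^L I` -/
lemma isIso_RD_W (V : Y.Opens) {E E' : DCoh.D Y} (φ : E ⟶ E') [IsIso ((RD V.ι).map φ)] :
    IsIso ((RD (f ⁻¹ᵁ V).ι).map ((DCoh.LTensorCx I).map ((DCoh.Lpull f).map φ))) := by
  haveI := KFlat.hasLpull V.ι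
  haveI := KFlat.hasLpull (f ⁻¹ᵁ V).ι
  haveI := KFlat.hasLpull (f ∣_ V)
  obtain ⟨eV⟩ := nonempty_lpull_RD_nat V.ι
  obtain ⟨eU⟩ := nonempty_lpull_RD_nat (f ⁻¹ᵁ V).ι
  haveI : IsIso ((DCoh.Lpull V.ι).map φ) := (NatIso.isIso_map_iff eV φ).2 inferInstance
  obtain ⟨sq⟩ := nonempty_lpull_square (f := (f ⁻¹ᵁ V).ι) (g := f) (f' := f ∣_ V) (g' := V.ι)
    (morphismRestrict_ι f V).symm
  haveI : IsIso ((DCoh.Lpull f ⋙ DCoh.Lpull (f ⁻¹ᵁ V).ι).map φ) :=
    (NatIso.isIso_map_iff sq φ).2 (inferInstanceAs (IsIso ((DCoh.Lpull (f ∣_ V)).map ((DCoh.Lpull V.ι).map φ))))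
  let M : CochainComplex (f ⁻¹ᵁ V : Scheme.{u}).Modules ℤ :=
    (DerivedCategory.Q : _ ⥤ DCoh.D _).objPreimage ((DCoh.Lpull (f ⁻¹ᵁ V).ι).obj (DCoh.toD X I))
  haveI := KFlat.hasLTensorCx M
  obtain ⟨t⟩ := nonempty_lpull_ltensor (f ⁻¹ᵁ V).ι I M (DerivedCategory.Q.objObjPreimageIso _)
  haveI : IsIso ((DCoh.LTensorCx I ⋙ DCoh.Lpull (f ⁻¹ᵁ V).ι).map ((DCoh.Lpull f).map φ)) :=
    (NatIso.isIso_map_iff t _).2 (inferInstanceAs
      (IsIso ((DCoh.LTensorCx M).map ((DCoh.Lpull f ⋙ DCoh.Lpull (f ⁻¹ᵁ V).ι).map φ))))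
  exact (NatIso.isIso_map_iff eU _).1 ‹_›

/-- the structure sheaf restricts to the structure sheaf -/
lemma nonempty_RD_inD {U : Scheme.{u}} (j : U ⟶ X) [IsOpenImmersion j] :
    Nonempty ((RD j).obj (DCoh.inD X (Coh.structureModule X)) ≅ DCoh.inD U (Coh.structureModule U)) := by
  haveI := KFlat.hasLpull j
  obtain ⟨e⟩ := nonempty_lpull_RD_nat j
  obtain ⟨u⟩ := PerfPush.nonempty_lpull_unit j
  exact ⟨(e.app _).symm ≪≫ u⟩

lemma preservesCoproduct_Lpull {ι : Type u} (C : ι → DCoh.D Y) [HasCoproduct C]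
    [HasCoproduct fun t => (DCoh.Lpull f).obj (C t)] :
    PreservesColimit (Discrete.functor C) (DCoh.Lpull f) :=
  haveI : IsIso (sigmaComparison (DCoh.Lpull f) C) := DQCoh.isIso_desc_Lpull f C
  PreservesCoproduct.of_iso_comparison _ _

lemma preservesCoproduct_LTensor {ι : Type u} (C : ι → DCoh.D X) [HasCoproduct C]
    [HasCoproduct fun t => (DCoh.LTensorCx I).obj (C t)] :
    PreservesColimit (Discrete.functor C) (DCoh.LTensorCx I) :=
  haveI : IsIso (sigmaComparison (DCoh.LTensorCx I) C) := DQCoh.isIso_desc_LTensorCx I C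
  PreservesCoproduct.of_iso_comparison _ _

end Groth.Agent.Dual3Nu
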