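import Groth.Agent.Dual3Nu.Main
import Groth.Agent.PerfGen.Results

/-!
A coproduct preserving right adjoint forces `Rf_*` to preserve perfect objects.
-/

set_option autoImplicit false
set_option backward.isDefEq.respectTransparency false
set_option backward.isDefEq.respectTransparency.types false
set_option linter.style.haveILetI false
set_option linter.unusedSectionVars false

universe u

open CategoryTheory Limits Pretriangulated AlgebraicGeometry

attribute [local instance] HasDerivedCategory.standard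

namespace Groth.Agent.Dual3Nu

open Groth.Agent.PerfGen Groth.Agent.DCohShriek

variable {X Y : Scheme.{u}} [CompactSpace X] [QuasiSeparatedSpace X] [CompactSpace Y] [QuasiSeparatedSpace Y]
  (f : X ⟶ Y) [DCoh.HasRpush f] {hf : DCoh.RpushPreservesQCoh f} {a : DCoh.DQCoh Y ⥤ DCoh.DQCoh X}
  (adj : DCoh.RpushQ f hf ⊣ a)

include adj in
theorem isPerfect_rpush_of_preservesCoproducts (hcop : ∀ J : Type u, PreservesColimitsOfShape (Discrete J) a)
    (P : DCoh.D X) (hP : DCoh.IsPerfect P) : DCoh.IsPerfect ((DCoh.Rpush f).obj P) := by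
  classical
  have hPq := isQCohD_of_isPerfect hP
  refine PerfGen.isPerfect_of_cpt (T := Set.univ) isClosed_univ (by rw [Set.compl_univ]; exact isCompact_empty)
    ⟨⟨hf P hPq, suppD_univ _⟩, fun {κ} K _ hK φ => ?_⟩
  haveI := DCohShriek.preservesCoproducts_ι X κ
  haveI := DCohShriek.preservesCoproducts_ι Y κ
  haveI := PerfGen.hasCoproducts_D' X κ
  haveI := PerfGen.hasCoproducts_D' Y κ
  haveI := hcop κ
  haveI := DCohShriek.additive_rpush f
  let K' : κ → DCoh.DQCoh Y := fun k => ⟨K k, (hK k).1⟩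
  let eY := PreservesCoproduct.iso (ObjectProperty.ι (DCoh.IsQCohD (X := Y))) K'
  obtain ⟨α, hα⟩ := (tr_bijective adj hPq (∐ K')).2 (φ ≫ eY.inv)
  let ea := PreservesCoproduct.iso a K'
  let eX := PreservesCoproduct.iso (ObjectProperty.ι (DCoh.IsQCohD (X := X))) (fun k => a.obj (K' k))
  obtain ⟨s, p, hp⟩ := finFac_perfect X hP (fun k => (a.obj (K' k)).obj) (fun k => (a.obj (K' k)).property)
    (α ≫ ea.hom.hom ≫ eX.hom)
  refine ⟨s, fun k => tr adj (p k), ?_⟩
  have hk : ∀ k, Sigma.ι (fun k => (a.obj (K' k)).obj) k ≫ eX.inv ≫ ea.inv.hom =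
      (a.map (Sigma.ι K' k)).hom := fun k => by
    rw [← Category.assoc, show Sigma.ι (fun k => (a.obj (K' k)).obj) k ≫ eX.inv =
      (Sigma.ι (fun k => a.obj (K' k)) k).hom from
        ι_comp_sigmaComparison (ObjectProperty.ι (DCoh.IsQCohD (X := X))) (fun k => a.obj (K' k)) k]
    exact congrArg InducedCategory.Hom.hom (ι_comp_sigmaComparison a K' k)
  have hα' : α = ∑ k ∈ s, p k ≫ (a.map (Sigma.ι K' k)).hom := by
    have h2 := congrArg (fun w => w ≫ eX.inv ≫ ea.inv.hom) hp
    have h3 : ea.hom.hom ≫ ea.inv.hom = 𝟙 _ := congrArg InducedCategory.Hom.hom ea.hom_inv_id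
    simp only [Category.assoc, Iso.hom_inv_id_assoc, Preadditive.sum_comp, hk] at h2
    rw [h3, Category.comp_id] at h2
    exact h2
  have htr : tr adj α = ∑ k ∈ s, tr adj (p k) ≫ (Sigma.ι K' k).hom := by
    rw [hα']
    have hadd : ∀ (u v : P ⟶ (a.obj (∐ K')).obj), tr adj (u + v) = tr adj u + tr adj v := fun u v => by
      simp [tr, Preadditive.add_comp]
    let T : (P ⟶ (a.obj (∐ K')).obj) →+ ((DCoh.Rpush f).obj P ⟶ (∐ K').obj) := AddMonoidHom.mk' (tr adj) hadd
    refine (map_sum T _ s).trans (Finset.sum_congr rfl fun k _ => ?_)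
    exact tr_map adj (Sigma.ι K' k) (p k)
  have hφ : φ = tr adj α ≫ eY.hom := by rw [hα]; simp
  rw [hφ, htr, Preadditive.sum_comp]
  refine Finset.sum_congr rfl fun k _ => ?_
  rw [Category.assoc]
  refine congrArg (tr adj (p k) ≫ ·) ?_
  show (ObjectProperty.ι _).map (Sigma.ι K' k) ≫ eY.hom = Sigma.ι K k
  rw [← Iso.eq_comp_inv]
  exact (ι_comp_sigmaComparison (ObjectProperty.ι (DCoh.IsQCohD (X := Y))) K' k).symm

end Groth.Agent.Dual3Nu
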