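import Groth.Agent.Dual3Nu.Tri
import Groth.Agent.FMTool.Basic
import Groth.Agent.AVMukai.Shift
import Groth.Agent.KSixLib.RelExternal
import Groth.Agent.KSixLib.TorProd

/-!
Tensoring with a shifted structure sheaf is an equivalence of the derived category.
-/

set_option autoImplicit false
set_option backward.isDefEq.respectTransparency false
set_option backward.isDefEq.respectTransparency.types false
set_option linter.style.haveILetI false
set_option linter.unusedSectionVars false

universe u

open CategoryTheory Limits AlgebraicGeometry HomologicalComplex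

attribute [local instance] HasDerivedCategory.standard

namespace Groth.Agent.Dual3Nu

open Groth.Agent.KFlat Groth.Agent.ProjForm Groth.Agent.FMTool

section Generic

variable {A : Type*} [Category* A] [Abelian A] (B : A ⥤ A ⥤ A) [B.Additive] [∀ X, (B.obj X).Additive]
  [∀ K L : CochainComplex A ℤ, HomologicalComplex.HasMapBifunctor K L B (ComplexShape.up ℤ)]

/-- tensoring with an object in degree zero, naturally -/
noncomputable def tensSingleNat (F : A) :
    (B.flip.obj F).mapHomologicalComplex (ComplexShape.up ℤ) ≅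
      (tens B).flip.obj ((single A (ComplexShape.up ℤ) 0).obj F) :=
  NatIso.ofComponents (fun L => tensSingleIso B L F) fun {L L'} a => by
    ext n
    change (B.map (a.f n)).app F ≫ ((B.obj (L'.X n)).map _ ≫ _) =
      ((B.obj (L.X n)).map _ ≫ HomologicalComplex.ιMapBifunctor L ((single A (ComplexShape.up ℤ) 0).obj F) B
        (ComplexShape.up ℤ) n 0 n (add_zero n)) ≫
      (HomologicalComplex.mapBifunctorMap a (𝟙 ((single A (ComplexShape.up ℤ) 0).obj F)) B (ComplexShape.up ℤ)).f n
    rw [Category.assoc, ι_mapBifunctorMap, HomologicalComplex.id_f, CategoryTheory.Functor.map_id,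
      Category.id_comp]
    exact NatTrans.naturality_assoc (B.map (a.f n)) _ _ |>.symm

end Generic

variable {X Y : Scheme.{u}}

/-- `- ⊗^L O = id` -/
theorem nonempty_ltensor_unit_nat (X : Scheme.{u}) [DCoh.HasLTensorCx (DerSch.unitCx X)] :
    Nonempty (DCoh.LTensorCx (DerSch.unitCx X) ≅ 𝟭 (DCoh.D X)) :=
  ⟨liftIso (ltQ (DerSch.unitCx X) ≪≫
    Functor.isoWhiskerLeft (resF X) (Functor.isoWhiskerRight
      ((tensSingleNat (KFlat.schB X) (Coh.structureModule X)).symm ≪≫
        NatIso.mapHomologicalComplex (DQCoh.tensUnitNat X) (ComplexShape.up ℤ) ≪≫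
        Functor.mapHomologicalComplexIdIso X.Modules (ComplexShape.up ℤ)) (Q₀ X) ≪≫ Functor.leftUnitor _) ≪≫
    rQ X ≪≫ (Functor.rightUnitor _).symm)⟩

/-- the shifted structure sheaf as a complex -/
noncomputable abbrev unitShift (X : Scheme.{u}) (n : ℤ) : CochainComplex X.Modules ℤ :=
  (DerSch.unitCx X)⟦n⟧

lemma isKFlat_unitShift (X : Scheme.{u}) (n : ℤ) : DCoh.IsKFlat (unitShift X n) :=
  DQCoh.isKFlat_shift (KSixLib.isKFlat_unitCx' X) n

/-- `- ⊗^L O[n]` is the shift by `n` -/
theorem nonempty_ltensor_iso_shift (n : ℤ) (P : CochainComplex X.Modules ℤ)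
    (e : DCoh.toD X P ≅ DCoh.toD X (unitShift X n)) [DCoh.HasLTensorCx P] :
    Nonempty (DCoh.LTensorCx P ≅ shiftFunctor (DCoh.D X) n) := by
  haveI := KFlat.hasLTensorCx (DerSch.unitCx X)
  haveI : DCoh.HasLTensorCx (unitShift X n) := KFlat.hasLTensorCx _
  obtain ⟨a⟩ := nonempty_ltensor_congr e
  obtain ⟨b⟩ := AVMukai.nonempty_ltensor_shift (DerSch.unitCx X) n
  obtain ⟨c⟩ := nonempty_ltensor_unit_nat X
  exact ⟨a ≪≫ b ≪≫ Functor.isoWhiskerRight c _ ≪≫ Functor.leftUnitor _⟩

/-- pullbacks of shifted structure sheaves -/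
noncomputable def pullUnitShift (f : X ⟶ Y) (n : ℤ) : (qC f).obj (unitShift Y n) ≅ unitShift X n :=
  (((Scheme.Modules.pullback f).mapHomologicalComplex (ComplexShape.up ℤ)).commShiftIso n).app _ ≪≫
    (shiftFunctor (CochainComplex X.Modules ℤ) n).mapIso (KSixLib.pullUnitCx f)

end Groth.Agent.Dual3Nu
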