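import Groth.Agent.PerfGen.LTTri
import Groth.Agent.DQCoh.Coprod
import Groth.Agent.ProjForm.Main
import Groth.Agent.DerPush.Triangle

/-!
Functors sending distinguished triangles to distinguished triangles (up to the connecting map), and a five lemma
for natural transformations between such functors and homological functors.
-/

set_option autoImplicit false
set_option backward.isDefEq.respectTransparency false
set_option backward.isDefEq.respectTransparency.types false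
set_option linter.style.haveILetI false
set_option linter.unusedSectionVars false

universe u

open CategoryTheory Limits Pretriangulated AlgebraicGeometry HomologicalComplex

attribute [local instance] HasDerivedCategory.standard

namespace Groth.Agent.Dual3Nu

section Abstract

variable {C D E : Type*} [Category* C] [Category* D] [Category* E]
  [Preadditive C] [Preadditive D] [Preadditive E] [HasZeroObject C] [HasZeroObject D] [HasZeroObject E]
  [HasShift C ℤ] [HasShift D ℤ] [HasShift E ℤ]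
  [∀ n : ℤ, (shiftFunctor C n).Additive] [∀ n : ℤ, (shiftFunctor D n).Additive]
  [∀ n : ℤ, (shiftFunctor E n).Additive] [Pretriangulated C] [Pretriangulated D] [Pretriangulated E]

/-- the first two maps of a triangle go to the first two maps of a triangle -/
def TriP (G : C ⥤ D) : Prop :=
  ∀ T ∈ distTriang C, ∃ c, Triangle.mk (G.map T.mor₁) (G.map T.mor₂) c ∈ distTriang D

lemma TriP.comp {F : C ⥤ D} {G : D ⥤ E} (hF : TriP F) (hG : TriP G) : TriP (F ⋙ G) := fun T hT => by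
  obtain ⟨c, hc⟩ := hF T hT
  exact hG _ hc

lemma triP_of_isTriangulated (G : C ⥤ D) [G.CommShift ℤ] [G.IsTriangulated] : TriP G := fun T hT =>
  ⟨_, G.map_distinguished T hT⟩

/-- exactness of `Hom(W, G -)` -/
def CovEx (G : C ⥤ D) (W : D) : Prop :=
  ∀ T ∈ distTriang C, G.map T.mor₁ ≫ G.map T.mor₂ = 0 ∧
    ∀ t : W ⟶ G.obj T.obj₂, t ≫ G.map T.mor₂ = 0 → ∃ s, s ≫ G.map T.mor₁ = t

lemma TriP.covEx {G : C ⥤ D} (h : TriP G) (W : D) : CovEx G W := fun T hT => by
  obtain ⟨c, hc⟩ := h T hT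
  refine ⟨comp_distTriang_mor_zero₁₂ _ hc, fun t ht => ?_⟩
  obtain ⟨s, hs⟩ := Triangle.coyoneda_exact₂ _ hc t ht
  exact ⟨s, hs.symm⟩

/-- **five lemma** -/
theorem bijective_app₃ {F G : C ⥤ D} (τ : F ⟶ G) (W : D) (hF : CovEx F W) (hG : CovEx G W)
    (T : Triangle C) (hT : T ∈ distTriang C)
    (h₁ : Function.Bijective fun x : W ⟶ F.obj T.obj₁ => x ≫ τ.app _)
    (h₂ : Function.Bijective fun x : W ⟶ F.obj T.obj₂ => x ≫ τ.app _)
    (h₁' : Function.Bijective fun x : W ⟶ F.obj (T.obj₁⟦(1 : ℤ)⟧) => x ≫ τ.app _)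
    (h₂' : Function.Bijective fun x : W ⟶ F.obj (T.obj₂⟦(1 : ℤ)⟧) => x ≫ τ.app _) :
    Function.Bijective fun x : W ⟶ F.obj T.obj₃ => x ≫ τ.app _ := by
  have hR := rot_of_distTriang _ hT
  have hR' := rot_of_distTriang _ hR
  obtain ⟨F12, F2⟩ := hF T hT
  obtain ⟨G12, G2⟩ := hG T hT
  obtain ⟨F23, F3⟩ := hF _ hR
  obtain ⟨G23, G3⟩ := hG _ hR
  obtain ⟨F34, F4⟩ := hF _ hR'
  obtain ⟨G34, G4⟩ := hG _ hR'
  refine ⟨fun x y hxy => ?_, fun z => ?_⟩
  · rw [← sub_eq_zero]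
    have hz : (x - y) ≫ τ.app _ = 0 := by rw [Preadditive.sub_comp, sub_eq_zero]; exact hxy
    generalize x - y = v at hz ⊢
    have h3 : v ≫ F.map T.mor₃ = 0 := h₁'.1 (by
      show (v ≫ F.map T.mor₃) ≫ τ.app _ = 0 ≫ τ.app _
      rw [Category.assoc, τ.naturality, ← Category.assoc, hz, zero_comp, zero_comp])
    obtain ⟨b, hb⟩ := F3 v h3
    replace hb : b ≫ F.map T.mor₂ = v := hb
    obtain ⟨a', ha'⟩ := G2 (b ≫ τ.app _) (by
      rw [Category.assoc, ← τ.naturality, ← Category.assoc, hb, hz])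
    obtain ⟨a, ha⟩ := h₁.2 a'
    replace ha : a ≫ τ.app _ = a' := ha
    have hab : a ≫ F.map T.mor₁ = b := h₂.1 (by
      show (a ≫ F.map T.mor₁) ≫ τ.app _ = b ≫ τ.app _
      rw [Category.assoc, τ.naturality, ← Category.assoc, ha, ha'])
    rw [← hb, ← hab, Category.assoc, F12, comp_zero]
  · obtain ⟨a, ha⟩ := h₁'.2 (z ≫ G.map T.mor₃)
    replace ha : a ≫ τ.app _ = z ≫ G.map T.mor₃ := ha
    have h4 : a ≫ F.map (-T.mor₁⟦(1 : ℤ)⟧') = 0 := h₂'.1 (by
      show (a ≫ F.map (-T.mor₁⟦(1 : ℤ)⟧')) ≫ τ.app _ = 0 ≫ τ.app _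
      rw [Category.assoc, τ.naturality, ← Category.assoc, ha, Category.assoc, zero_comp]
      exact (congrArg (z ≫ ·) G34).trans comp_zero)
    obtain ⟨(c : W ⟶ F.obj T.obj₃), hc⟩ := F4 a h4
    replace hc : c ≫ F.map T.mor₃ = a := hc
    have h3 : (z - c ≫ τ.app _) ≫ G.map T.mor₃ = 0 := by
      rw [Preadditive.sub_comp, Category.assoc, ← τ.naturality, ← Category.assoc, hc, ha, sub_self]
    obtain ⟨b', hb'⟩ := G3 _ h3
    replace hb' : b' ≫ G.map T.mor₂ = z - c ≫ τ.app _ := hb'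
    obtain ⟨b, hb⟩ := h₂.2 b'
    replace hb : b ≫ τ.app _ = b' := hb
    refine ⟨c + b ≫ F.map T.mor₂, ?_⟩
    show (c + b ≫ F.map T.mor₂) ≫ τ.app _ = z
    rw [Preadditive.add_comp, Category.assoc, τ.naturality, ← Category.assoc, hb, hb']
    abel

end Abstract

section Schemes

variable {X Y : Scheme.{u}}

/-- functors on `D` computed by complexwise exact functors on K-flat complexes -/
lemma triP_of_kFlat (G : DCoh.D Y ⥤ DCoh.D X) (Φ : CochainComplex Y.Modules ℤ ⥤ CochainComplex X.Modules ℤ)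
    [Φ.PreservesZeroMorphisms]
    (α : DerivedCategory.Q ⋙ G ⟶ Φ ⋙ DerivedCategory.Q)
    (hα : ∀ P, DCoh.IsKFlat P → IsIso (α.app P))
    (hS : ∀ S : ShortComplex (CochainComplex Y.Modules ℤ),
      (∀ n, (S.map (eval Y.Modules (ComplexShape.up ℤ) n)).Splitting) → (S.map Φ).ShortExact) :
    TriP G := by
  suffices H : ∀ T ∈ distTriang (DCoh.D Y),
      ∃ c, Triangle.mk (G.map T.mor₂) (G.map T.mor₃) c ∈ distTriang (DCoh.D X) by
    intro T hT
    obtain ⟨c, hc⟩ := H T.invRotate (inv_rot_of_distTriang _ hT)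
    let i := (shiftEquiv (DCoh.D Y) (1 : ℤ)).counitIso.app T.obj₃
    refine ⟨G.map i.inv ≫ c, isomorphic_distinguished _ hc _
      (Triangle.isoMk _ _ (Iso.refl _) (Iso.refl _) (G.mapIso i.symm) ?_ ?_ ?_)⟩
    · exact (Category.comp_id _).trans (Category.id_comp _).symm
    · refine Eq.trans ?_ (Category.id_comp _).symm
      exact (G.map_comp _ _).symm
    · refine ((congrArg ((G.map i.inv ≫ c) ≫ ·) ((shiftFunctor (DCoh.D X) (1 : ℤ)).map_id _)).trans
        (Category.comp_id _)).trans ?_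
      rfl
  intro T hT
  let e₁ : DerivedCategory.Q.obj _ ≅ T.obj₁ := DerivedCategory.Q.objObjPreimageIso T.obj₁
  let e₂ : DerivedCategory.Q.obj _ ≅ T.obj₂ := DerivedCategory.Q.objObjPreimageIso T.obj₂
  obtain ⟨C₀, s, hs, v, hv⟩ := DerivedCategory.right_fac (e₁.hom ≫ T.mor₁ ≫ e₂.inv)
  haveI : QuasiIso s := (DerivedCategory.isIso_Q_map_iff_quasiIso _ s).1 hs
  haveI := hs
  let r := KFlat.resF Y
  let u : r.obj C₀ ⟶ r.obj ((DerivedCategory.Q : _ ⥤ DCoh.D Y).objPreimage T.obj₂) := r.map v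
  let d₁ : DerivedCategory.Q.obj (r.obj C₀) ≅ T.obj₁ :=
    asIso (DerivedCategory.Q.map ((KFlat.resψ Y).app C₀)) ≪≫ asIso (DerivedCategory.Q.map s) ≪≫ e₁
  let d₂ : DerivedCategory.Q.obj (r.obj ((DerivedCategory.Q : _ ⥤ DCoh.D Y).objPreimage T.obj₂)) ≅ T.obj₂ :=
    asIso (DerivedCategory.Q.map ((KFlat.resψ Y).app _)) ≪≫ e₂
  have hnat : DerivedCategory.Q.map u ≫ d₂.hom = d₁.hom ≫ T.mor₁ := by
    have h1 : u ≫ (KFlat.resψ Y).app _ = (KFlat.resψ Y).app C₀ ≫ v := (KFlat.resψ Y).naturality v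
    have h2 : DerivedCategory.Q.map v ≫ e₂.hom = DerivedCategory.Q.map s ≫ e₁.hom ≫ T.mor₁ := by
      rw [show DerivedCategory.Q.map v = DerivedCategory.Q.map s ≫ e₁.hom ≫ T.mor₁ ≫ e₂.inv by
        rw [hv, IsIso.hom_inv_id_assoc]]
      simp
    simp only [d₁, d₂, Iso.trans_hom, asIso_hom, Category.assoc]
    rw [← DerivedCategory.Q.map_comp_assoc, h1, DerivedCategory.Q.map_comp_assoc, h2]
  have hP₁ : DCoh.IsKFlat (r.obj C₀) := KFlat.isKFlat_resF _
  have hP₂ : DCoh.IsKFlat (r.obj ((DerivedCategory.Q : _ ⥤ DCoh.D Y).objPreimage T.obj₂)) := KFlat.isKFlat_resF _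
  have hP₃ : DCoh.IsKFlat (CochainComplex.mappingCone u) := KFlat.rflat_mappingCone_sch _ hP₁ hP₂
  have hP₄ : DCoh.IsKFlat ((r.obj C₀)⟦(1 : ℤ)⟧) := DQCoh.isKFlat_shift hP₁ 1
  let φ := isoTriangleOfIso₁₂ _ _ (DerivedCategory.mappingCone_triangle_distinguished u) hT d₁ d₂ hnat
  let E : ∀ {P : CochainComplex Y.Modules ℤ} {A : DCoh.D Y} (_ : DCoh.IsKFlat P)
      (_ : DerivedCategory.Q.obj P ≅ A), G.obj A ≅ DerivedCategory.Q.obj (Φ.obj P) := fun {P A} hP d =>
    G.mapIso d.symm ≪≫ @asIso _ _ _ _ (α.app P) (hα P hP)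
  have hE : ∀ {P P' : CochainComplex Y.Modules ℤ} {A A' : DCoh.D Y} (hP : DCoh.IsKFlat P)
      (hP' : DCoh.IsKFlat P') (d : DerivedCategory.Q.obj P ≅ A) (d' : DerivedCategory.Q.obj P' ≅ A')
      (w : P ⟶ P') (g : A ⟶ A'), DerivedCategory.Q.map w ≫ d'.hom = d.hom ≫ g →
      G.map g ≫ (E hP' d').hom = (E hP d).hom ≫ DerivedCategory.Q.map (Φ.map w) := by
    intro P P' A A' hP hP' d d' w g h
    have h' : g ≫ d'.inv = d.inv ≫ DerivedCategory.Q.map w := by
      rw [Iso.comp_inv_eq, Category.assoc, h, Iso.inv_hom_id_assoc]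
    have hn : G.map (DerivedCategory.Q.map w) ≫ α.app P' = α.app P ≫ DerivedCategory.Q.map (Φ.map w) :=
      α.naturality w
    simp only [E, Iso.trans_hom, Functor.mapIso_hom, Iso.symm_hom, asIso_hom, Category.assoc]
    rw [← G.map_comp_assoc, h', G.map_comp_assoc, hn]
  let d₃ : DerivedCategory.Q.obj (CochainComplex.mappingCone u) ≅ T.obj₃ := Triangle.π₃.mapIso φ
  let d₄ : DerivedCategory.Q.obj ((r.obj C₀)⟦(1 : ℤ)⟧) ≅ T.obj₁⟦(1 : ℤ)⟧ :=
    (DerivedCategory.Q.commShiftIso (1 : ℤ)).app _ ≪≫ (shiftFunctor (DCoh.D Y) (1 : ℤ)).mapIso d₁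
  let S := CochainComplex.mappingCone.triangleRotateShortComplex u
  have hse : (S.map Φ).ShortExact := hS _ (CochainComplex.mappingCone.triangleRotateShortComplexSplitting u)
  let M := DerivedCategory.triangleOfSES hse
  refine ⟨(E hP₄ d₄).hom ≫ M.mor₃ ≫ (E hP₂ d₂).inv⟦(1 : ℤ)⟧',
    isomorphic_distinguished _ (DerivedCategory.triangleOfSES_distinguished hse) _
      (Triangle.isoMk _ _ (E hP₂ d₂) (E hP₃ d₃) (E hP₄ d₄) ?_ ?_ ?_)⟩
  · exact hE hP₂ hP₃ d₂ d₃ S.f T.mor₂ φ.hom.comm₂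
  · refine hE hP₃ hP₄ d₃ d₄ S.g T.mor₃ ?_
    have h3 := φ.hom.comm₃
    dsimp [CochainComplex.mappingCone.triangle, S, d₃, d₄] at h3 ⊢
    rw [← Category.assoc]
    exact h3
  · simp only [Triangle.mk_mor₃, Category.assoc, ← Functor.map_comp, Iso.inv_hom_id, CategoryTheory.Functor.map_id,
      Category.comp_id, M]

lemma triP_LTensorCx (E : CochainComplex X.Modules ℤ) [DCoh.HasLTensorCx E] : TriP (DCoh.LTensorCx E) :=
  triP_of_kFlat _ ((KFlat.tens (KFlat.schB X)).flip.obj E) (KFlat.ltCounit E)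
    (fun _ hP => KFlat.isIso_ltCounit_app E hP)
    (fun _ σ => KFlat.shortExact_of_splitting (KFlat.splittingFlip (KFlat.schB X) E _ σ))

lemma triP_Lpull (f : X ⟶ Y) [DCoh.HasLpull f] : TriP (DCoh.Lpull f) :=
  triP_of_kFlat _ ((Scheme.Modules.pullback f).mapHomologicalComplex (ComplexShape.up ℤ)) (DQCoh.lpullCounit f)
    (fun P hP => by
      haveI := KFlat.isIso_app_of_kFlat (KFlat.kFlatAcyclic_pullback f) (DCoh.Lpull f)
        ((DCoh.pullKh f).totalLeftDerivedCounit DerivedCategory.Qh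
          (HomotopyCategory.quasiIso Y.Modules (ComplexShape.up ℤ))) hP
      simp only [DQCoh.lpullCounit, NatTrans.comp_app, Functor.whiskerRight_app, Functor.whiskerLeft_app]
      infer_instance)
    (fun S σ => KFlat.shortExact_of_splitting fun n =>
      ((σ n).map (Scheme.Modules.pullback f) : ((S.map _).map (eval _ _ n)).Splitting))

lemma triP_rpush (f : X ⟶ Y) [DCoh.HasRpush f] : TriP (DCoh.Rpush f) := fun T hT =>
  DerPush.exists_rpush_triangle f T.mor₁ T.mor₂ T.mor₃ hT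

end Schemes

end Groth.Agent.Dual3Nu
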